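import Cfsg.Agent.J4Rep94.S2.Data

/-!
# Certificate data
-/

set_option autoImplicit false
set_option maxRecDepth 100000

namespace Cfsg.Agent.J4Rep94.S2

open Cfsg.Agent.CosetEnum

def fv0 : ℕ := 0x99000010000100147000020004d00006000a3000010000300145000020005200005000b5000010000500143000020005b00006000c7000010000700141000020006400007000d900001000090013f000020006d00006000eb000010000b0013d000020007600007000fd000010000d0013b000020007f000060010f000010000f0013800002000880000500011000130001500017000190001b0001d000910009b000a7000b9000cb000dd000ef0010100113000100010e000fc000ea000d8000c6000b4000a2000980008e0008c00126000a1000b1000c3000d5000e7000f90010b0011d00137000140008a000040011200100000ee000dc000ca000b800128000b7000c9000db000ed000ff00111001310011600104000f2000e0000ce000bc0012a000bb000cd000df000f10010300115001330011a00108000f6000e4000d2000c00012c000bf000d1000e3000f50010700119001350002a0011c0010a000f8000e6000d4000c20012f000c5000d7000e9000fb0010d0011f0000d0009000003000000011800106000f4000e2000d0000be000ac0009e00125000690006b0006d0006f00071000730007500077000790007b0007d0007f000810008300085000870008900097000a1000b3000c5000d7000e9000fb0010d0011f000230009000002000000011400102000f0000de000cc000ba000a80009c001230004500047000490004b0004d0004f00051000530005500057000590005b0005d0005f000610006300065000950009f000af000c1000d3000e5000f7001090011b000230008e000020000000110000fe000ec000da000c8000b6000a40009a0012100021000230002500027000290002b0002d0002f00031000330003500037000390003b0003d0003f00041000930009d000ab000bd000cf000e1000f30010500117000230008c0000200000000b0000b3000020005a0000100000000ac000af00002000580000100000000a8000ab00002000560000100000000a4000a70000200054000010008a00001000960000100045000000006600001000940000100033000000004200001000920000100021000000001e0000100090000010000f00000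
theorem fok0 : sys.checkFacts 144 21 fv0 = true := by decide +kernel


end Cfsg.Agent.J4Rep94.S2
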