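import Cfsg.Agent.J4Rep94.P7
import Cfsg.Agent.J4Rep94.Orbit

/-!
# Certificate data
-/

set_option autoImplicit false
set_option maxRecDepth 100000

namespace Cfsg.Agent.J4Rep94.S2

open Cfsg.Agent.CosetEnum

def fxL0 : ℕ := 0x30004800000180026800008c00148000086000b60000630006400004180036800028c001d8000186000fe0000e300008000880000450004780002400023400011c0011600008c0008908002d0002c84001600015c2000ac000aa100054000530800230002604000d00012c200044000941000100004910004800043840023c0021840011c0010a10008d0008410004600041840022c0020840011400102100089000801000440003f800021c001f800010c000fa0000850007c0000420003d800020c001e8000104000f2000081000780000400003b80001fc001d82000fc000ea20007d0007408003e0003988001ec001c82000f4000e22000790007008003c0003788001dc001b82000ec000da0000750006c00003a0003580001cc001a80000e4000d2000071000680000380003380001bc001980000dc000ca00006d000641000360003184001ac001884000d4000c2100069000601000340002f840019c001784000cc000ba1000650005c0800320002d800018c001680000c4000b2000061000580000300002b800017c001580000bc000aa00005d0005400002e00029800016c0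01484000b4000a21000590005110002c00028040015c001404000ac0009e1000550004f10002a00027040014c001384000a40009a0000510004c00002800025800013c0012800009c0009200004d0004808002600022840012c000cc200094000421000490000f08002400023800011c0011840008c0008a0000450004410002200021800010c0010820008400082000041000400800200001f80000fc000f840007c0007a00003d0003c08001e0001d80000ec000e8200074000720000390003810001c0001b80000dc000d820006c0006a0000350003410001a0001980000cc000c840006400062000031000300800180001780000bc000b820005c0005a00002d0002c1000160001580000ac000a8200054000520000290002808001400013800009c0009840004c0004a0000250002408001200011800008c0008840004400042000021000201000100000f800007c0007820003c0003a00001d0001c08000e0000d800006c00068400034000320000190001808000c0000b800005c0005820002c0002a0000150001410000a00009800004c00048200024000220000110001010000800007800003c0003840001c0001a00000d0000c08000600005800002c00028200014000120000090000810000400003800001c0001820000c0000a0000050000408000200001800000c000084000040000200000100000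
def fx : PTree := (.leaf fxL0)
def rules0 : DTree Rule := (.node 4 (.node 2 (.node 1 (.leaf ⟨1, [1], [2], false, 3, 0⟩) (.leaf ⟨1, [1,1], [], false, 3, 0⟩)) (.node 1 (.leaf ⟨0, [1,0,2,0,1,0,1,0,2,0,1,0,2,0,2,0,1,0,2,0,2,0,1,0,2,0,2,0,1,0,1,0,2,0,1], [], false, 8, 9⟩) (.leaf ⟨0, [1,0,2,0,1,0,2,0,1,0,2,0,1], [0,2,0,1,0,2,0,1,0,2,0,1,0,2,0,2,0,1,0,2,0,1,0,2,0,1,0,2,0,2,0,1,0,2,0,1,0,2,0,1,0,2], false, 9, 3⟩))) (.node 2 (.node 1 (.leaf ⟨3, [0,2,0,1,0,2,0,2,0,1,0,1,0,2,0,1,0,1,0,2], [1,0,2,0,1,0,1,0,2,0,1,0,2,0,2,0], false, 8, 28⟩) (.leaf ⟨3, [1], [1], false, 1, 0⟩)) (.node 1 (.leaf ⟨3, [0], [0], false, 0, 0⟩) (.leaf ⟨3, [2], [2], false, 2, 0⟩))))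
def rules : DTree Rule := rules0
def sys : Sys := ⟨3, 0x18440, fx, rules⟩
def rels : List (List ℕ) := baseRels ++ [[0,1,0,1,0,2,0,1,0,2,0,1,0,2,0,1,0,1,0,2,0,1,0,2,0,1,0,2,0,1,0,1,0,2,0,1,0,2,0,1,0,2,0,1,0,1,0,2,0,1,0,2,0,1,0,2]]
def subs : List (List ℕ) := []

end Cfsg.Agent.J4Rep94.S2
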